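import Groth.Agent.Ega43.EquidimSch
import Groth.Agent.VarietyA.LocDim
import Groth.Agent.Flat2D.RelDimClosure2
import Groth.Agent.S0402
import Groth.Prelude.Def_EGA43

/-!
# A sufficient criterion for equidimensionality at a point, by points

`isEquidimAt_of_generic`: `f : X ⟶ Y` locally of finite type with `X` locally Noetherian is
equidimensional at `x` as soon as, for some `e`, every maximal point `ζ` of `X` with `ζ ⤳ x` maps to
a maximal point of `Y` and has `e ≤ trdeg κ(ζ)/κ(f ζ)`, and every point `w` of the fibre through `x`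
with `w ⤳ x` has `trdeg κ(w)/κ(f w) ≤ e`.
-/

set_option autoImplicit false
open CategoryTheory AlgebraicGeometry TopologicalSpace Topology
universe u

namespace Groth.Agent.Ega4fib.H118.EquidimCrit

open Groth.Agent.CycB.RelDim Groth.Agent

variable {X Y : Scheme.{u}}

/-- Lower semicontinuity along generizations: the generic points of the fibres of `closure {ζ}` have
relative transcendence degree at least that of `ζ`. -/
theorem rtd_le_of_fibGeneric (f : X ⟶ Y) [LocallyOfFiniteType f] {ζ w : X} (h : ζ ⤳ w)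
    (hw : FibGeneric f w) : rtd f ζ ≤ rtd f w := by
  refine Flat2D.RelDimClosure.rtd_le_of_closure_mem f ζ w (specializes_iff_mem_closure.mp h) ?_
  refine ⟨isIrreducible_singleton.closure, fun S hS hle t ht => ?_⟩
  -- `S` is contained in the closure of `w`
  let w' : Flat2D.RelDimClosure.Fib f ζ (f w) := ⟨w, specializes_iff_mem_closure.mp h, rfl⟩
  have hemb := Flat2D.RelDimClosure.isEmbedding_toFiber f ζ (f w)
  let T := closure (Flat2D.RelDimClosure.toFiber f ζ (f w) '' S)
  have hT : IsIrreducible T := (hS.image _ hemb.continuous.continuousOn).closure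
  obtain ⟨s, hs⟩ := QuasiSober.sober hT isClosed_closure
  have hw'T : Flat2D.RelDimClosure.toFiber f ζ (f w) w' ∈ T :=
    subset_closure ⟨w', hle (subset_closure rfl), rfl⟩
  have hsw : s ⤳ Flat2D.RelDimClosure.toFiber f ζ (f w) w' := hs.specializes hw'T
  have h1 : f.fiberι (f w) s ⤳ w := by
    have := hsw.map (f.fiberι (f w)).continuous
    rwa [Flat2D.RelDimClosure.fiberι_toFiber] at this
  have h2 : f (f.fiberι (f w) s) = f w := by
    have : f.fiberι (f w) s ∈ Set.range (f.fiberι (f w)) := ⟨s, rfl⟩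
    rw [Scheme.Hom.range_fiberι] at this
    exact this
  have h3 : f.fiberι (f w) s = w := hw _ h2 h1
  have h4 : s ⤳ Flat2D.RelDimClosure.toFiber f ζ (f w) t :=
    hs.specializes (subset_closure ⟨t, ht, rfl⟩)
  have h5 : s = Flat2D.RelDimClosure.toFiber f ζ (f w) w' := by
    apply (f.fiberι (f w)).isEmbedding.injective
    rw [h3, Flat2D.RelDimClosure.fiberι_toFiber]
  rw [h5] at h4
  exact specializes_iff_mem_closure.mp (hemb.isInducing.specializes_iff.mp h4)

/-- Sufficient criterion for equidimensionality at a point. -/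
theorem isEquidimAt_of_generic [IsLocallyNoetherian X] (f : X ⟶ Y) [LocallyOfFiniteType f] (x : X)
    (e : ℕ)
    (h1 : ∀ ζ : X, ζ ⤳ x → (∀ ζ' : X, ζ' ⤳ ζ → ζ' = ζ) →
      (∀ y : Y, y ⤳ f ζ → y = f ζ) ∧ (e : Cardinal.{u}) ≤ rtd f ζ)
    (h2 : ∀ w : X, w ⤳ x → f w = f x → rtd f w ≤ e) : EGA43.IsEquidimAt f x := by
  have hx : FlatMor.fibreDimAt f x ≤ e := VarietyA.LocDim.fibreDimAt_le f x e h2
  obtain ⟨U, hxU, hUO, hU⟩ := Ega43.EquidimSch.exists_opens_small x
    (⟨_, S0402.result f e⟩ : X.Opens) hx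
  -- every maximal point of `X` in `U` is a generization of `x`
  have hU' : ∀ ζ ∈ U, (∀ ζ' : X, ζ' ⤳ ζ → ζ' = ζ) → ζ ⤳ x := by
    intro ζ hζ hmax
    obtain ⟨η, hη, hηx⟩ := hU ζ hζ
    rwa [hmax η hη] at hηx
  refine ⟨e, U, hxU, ?_, ?_⟩
  · intro Z hZ
    have hQ : QuasiSober ↥U := U.isOpen.isOpenEmbedding_subtypeVal.quasiSober
    let ζ : U := hZ.1.genericPoint
    have hζ : IsGenericPoint ζ Z :=
      hZ.1.isGenericPoint_genericPoint (isClosed_of_mem_irreducibleComponents _ hZ)
    have hmax : ∀ ξ : X, ξ ⤳ (ζ : X) → ξ = ζ := by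
      intro ξ hξ
      have hξU : ξ ∈ U := hξ.mem_open U.isOpen ζ.2
      have hξ' : (⟨ξ, hξU⟩ : U) ⤳ ζ := (subtype_specializes_iff _ _).mpr hξ
      have h1 : closure {(⟨ξ, hξU⟩ : U)} ≤ Z := by
        refine hZ.2 isIrreducible_singleton.closure ?_
        rw [← hζ.def]
        exact hξ'.closure_subset
      have h2 : ζ ⤳ (⟨ξ, hξU⟩ : U) := hζ.specializes (h1 (subset_closure rfl))
      exact congrArg Subtype.val (hξ'.antisymm h2).eq
    have hζx : (ζ : X) ⤳ x := hU' ζ ζ.2 hmax
    obtain ⟨hymax, -⟩ := h1 ζ hζx hmax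
    refine ⟨closure {(U.ι ≫ f) ζ}, ⟨isIrreducible_singleton.closure, ?_⟩, ?_, ?_⟩
    · intro b hb hle
      have hbc := hb.closure
      have hg := hbc.isGenericPoint_genericPoint isClosed_closure
      have h1 : hbc.genericPoint ⤳ (U.ι ≫ f) ζ :=
        hg.specializes (subset_closure (hle (subset_closure rfl)))
      rw [← show hbc.genericPoint = (U.ι ≫ f) ζ from hymax _ h1, hg.def]
      exact subset_closure
    · have : f (ζ : X) ⤳ f x := hζx.map f.continuous
      exact specializes_iff_mem_closure.mp this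
    · apply le_antisymm
      · refine closure_minimal ?_ isClosed_closure
        rw [← hζ.def]
        refine (image_closure_subset_closure_image (U.ι ≫ f).continuous).trans ?_
        exact closure_mono (Set.image_singleton (f := (U.ι ≫ f)) (a := ζ)).subset
      · exact closure_mono (Set.singleton_subset_iff.mpr ⟨ζ, hζ.mem, rfl⟩)
  · intro x' Z hZ
    obtain ⟨z, rfl, hz⟩ := exists_fibGeneric_of_mem hZ
    obtain ⟨n, hn, hn'⟩ := exists_dim_closure_fiber (U.ι ≫ f) _ z
    rw [hn']
    generalize (U.ι ≫ f).fiberι _ z = w at hz hn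
    have hn2 : rtd f w.1 = n := (VarietyA.LocDim.rtd_ι_comp U f w).symm.trans hn
    -- upper bound
    have hle : (n : WithBot ℕ∞) ≤ e := by
      obtain ⟨m, hm, hm'⟩ := VarietyA.LocDim.le_fibreDimAt f w.1 w.1 specializes_rfl rfl
      rw [hn2] at hm
      have hmn : m = n := by exact_mod_cast hm.symm
      rw [← hmn]
      exact hm'.trans (hUO w.2)
    -- lower bound
    have hge : (e : Cardinal.{u}) ≤ n := by
      obtain ⟨ζ, hζw, hmax⟩ : ∃ ξ : X, ξ ⤳ w.1 ∧ ∀ ξ' : X, ξ' ⤳ ξ → ξ' = ξ := by
        have hT := irreducibleComponent_mem_irreducibleComponents w.1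
        have hTc : IsClosed (irreducibleComponent w.1) := isClosed_irreducibleComponent
        obtain ⟨ξ, hξ⟩ := QuasiSober.sober hT.1 hTc
        refine ⟨ξ, ?_, ?_⟩
        · rw [specializes_iff_mem_closure, hξ.def]
          exact mem_irreducibleComponent
        · intro ξ' hξ'
          have h1 : irreducibleComponent w.1 ≤ closure {ξ'} := by
            rw [← hξ.def]
            exact hξ'.closure_subset
          have h2 := hT.2 isIrreducible_singleton.closure h1
          have h3 : ξ ⤳ ξ' := by
            rw [specializes_iff_mem_closure, hξ.def]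
            exact h2 (subset_closure rfl)
          exact (hξ'.antisymm h3).eq
      have hζx : ζ ⤳ x := hU' ζ (hζw.mem_open U.isOpen w.2) hmax
      obtain ⟨-, he⟩ := h1 ζ hζx hmax
      have hwg : FibGeneric f w.1 := by
        intro w' hw' hsp
        have hw'U : w' ∈ U := hsp.mem_open U.isOpen w.2
        have h5 := hz ⟨w', hw'U⟩ hw' ((subtype_specializes_iff _ _).mpr hsp)
        exact congrArg Subtype.val h5
      rw [← hn2]
      exact he.trans (rtd_le_of_fibGeneric f hζw hwg)
    have hge' : e ≤ n := by exact_mod_cast hge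
    have hle' : n ≤ e := by exact_mod_cast hle
    rw [le_antisymm hle' hge']

end Groth.Agent.Ega4fib.H118.EquidimCrit
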